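import Groth.Agent.LeffGlue.StalkIdeal
import Groth.Agent.W7Exist.Tricky
import Groth.Agent.QC.Coherent

/-!
Fibre products of modules on stalks.
-/

set_option autoImplicit false
set_option maxHeartbeats 1000000
set_option linter.style.haveILetI false
set_option linter.unusedSectionVars false
set_option backward.isDefEq.respectTransparency false
set_option backward.isDefEq.respectTransparency.types false
universe u

namespace Groth.Agent.LeffGlue

open CategoryTheory CategoryTheory.Limits AlgebraicGeometry TopologicalSpace Opposite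
open Groth.Agent.K0Dev (St)

noncomputable section

attribute [local instance] Abelian.hasFiniteBiproducts

variable {X : Scheme.{u}} {A B C : X.Modules} (g : A ⟶ C) (h : B ⟶ C)

/-- The fibre product. -/
def fib : X.Modules := kernel (biprod.fst ≫ g - biprod.snd ≫ h)

/-- The first projection. -/
def fibFst : fib g h ⟶ A := kernel.ι (biprod.fst ≫ g - biprod.snd ≫ h) ≫ biprod.fst

/-- The second projection. -/
def fibSnd : fib g h ⟶ B := kernel.ι (biprod.fst ≫ g - biprod.snd ≫ h) ≫ biprod.snd

theorem fib_condition : fibFst g h ≫ g = fibSnd g h ≫ h := by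
  rw [← sub_eq_zero, fibFst, fibSnd, Category.assoc, Category.assoc, ← Preadditive.comp_sub]
  exact kernel.condition _

variable {g h}

/-- The map into the fibre product. -/
def fibLift {P : X.Modules} (a : P ⟶ A) (b : P ⟶ B) (w : a ≫ g = b ≫ h) : P ⟶ fib g h :=
  kernel.lift _ (biprod.lift a b) (by
    rw [Preadditive.comp_sub, biprod.lift_fst_assoc, biprod.lift_snd_assoc, w, sub_self])

theorem fibLift_fst {P : X.Modules} (a : P ⟶ A) (b : P ⟶ B) (w : a ≫ g = b ≫ h) :
    fibLift a b w ≫ fibFst g h = a := by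
  rw [fibLift, fibFst, kernel.lift_ι_assoc, biprod.lift_fst]

theorem fibLift_snd {P : X.Modules} (a : P ⟶ A) (b : P ⟶ B) (w : a ≫ g = b ≫ h) :
    fibLift a b w ≫ fibSnd g h = b := by
  rw [fibLift, fibSnd, kernel.lift_ι_assoc, biprod.lift_snd]

theorem fib_hom_ext {P : X.Modules} {a b : P ⟶ fib g h} (h₁ : a ≫ fibFst g h = b ≫ fibFst g h)
    (h₂ : a ≫ fibSnd g h = b ≫ fibSnd g h) : a = b := by
  refine (cancel_mono (kernel.ι (biprod.fst ≫ g - biprod.snd ≫ h))).1 (biprod.hom_ext _ _ ?_ ?_)
  · rw [Category.assoc, Category.assoc]; exact h₁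
  · rw [Category.assoc, Category.assoc]; exact h₂

theorem fib_sm_ext (x : X) {e e' : (fib g h).presheaf.stalk x}
    (h₁ : sm x (fibFst g h) e = sm x (fibFst g h) e') (h₂ : sm x (fibSnd g h) e = sm x (fibSnd g h) e') : e = e' := by
  let k := kernel.ι (biprod.fst ≫ g - biprod.snd ≫ h)
  haveI : Mono ((St x).map k) := inferInstance
  refine (ModuleCat.mono_iff_injective ((St x).map k)).1 inferInstance ?_
  have key : ∀ v : (A ⊞ B).presheaf.stalk x,
      v = sm x biprod.inl (sm x biprod.fst v) + sm x biprod.inr (sm x biprod.snd v) := fun v => by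
    rw [← sm_comp, ← sm_comp, ← sm_add, biprod.total, sm_id]
  show sm x k e = sm x k e'
  rw [key (sm x k e), key (sm x k e'), ← sm_comp x k biprod.fst, ← sm_comp x k biprod.fst, ← sm_comp x k biprod.snd,
    ← sm_comp x k biprod.snd]
  exact congrArg₂ (fun p q => sm x biprod.inl p + sm x biprod.inr q) h₁ h₂

theorem fib_sm_exists (x : X) (a : A.presheaf.stalk x) (b : B.presheaf.stalk x) (w : sm x g a = sm x h b) :
    ∃ e : (fib g h).presheaf.stalk x, sm x (fibFst g h) e = a ∧ sm x (fibSnd g h) e = b := by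
  let d := biprod.fst ≫ g - biprod.snd ≫ h
  let v := sm x (biprod.inl : A ⟶ A ⊞ B) a + sm x (biprod.inr : B ⟶ A ⊞ B) b
  have hv₁ : sm x (biprod.fst : A ⊞ B ⟶ A) v = a := by
    rw [map_add, ← sm_comp, ← sm_comp, biprod.inl_fst, biprod.inr_fst, sm_id, sm_zero, add_zero]
  have hv₂ : sm x (biprod.snd : A ⊞ B ⟶ B) v = b := by
    rw [map_add, ← sm_comp, ← sm_comp, biprod.inl_snd, biprod.inr_snd, sm_id, sm_zero, zero_add]
  have hv : sm x d v = 0 := by
    rw [sm_sub, sm_comp, sm_comp, hv₁, hv₂, w, sub_self]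
  have hS : ((ShortComplex.mk (kernel.ι d) d (kernel.condition d)).map (St x)).Exact :=
    (ShortComplex.exact_of_f_is_kernel _ (kernelIsKernel d)).map (St x)
  obtain ⟨e, he⟩ := (ShortComplex.moduleCat_exact_iff _).1 hS v hv
  refine ⟨e, ?_, ?_⟩
  · rw [fibFst, sm_comp]; exact (congrArg (sm x biprod.fst) he).trans hv₁
  · rw [fibSnd, sm_comp]; exact (congrArg (sm x biprod.snd) he).trans hv₂

theorem isCoh_fib [IsLocallyNoetherian X] (hA : Coh.IsCoh A) (hB : Coh.IsCoh B) (hC : Coh.IsQCoh C) :
    Coh.IsCoh (fib g h) :=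
  QC.isCoh_kernel (W7Exist.isCoh_biprod hA hB) hC _

end

end Groth.Agent.LeffGlue
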