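import Groth.Agent.LeffGlue.StalkIdeal
import Groth.Agent.LeffAmple.Algebraize

/-!
A coherent module with levelwise locally free completion is locally free near the closed subscheme.
-/

set_option autoImplicit false
set_option maxHeartbeats 1000000
set_option linter.style.haveILetI false
set_option linter.unusedSectionVars false
set_option backward.isDefEq.respectTransparency false
set_option backward.isDefEq.respectTransparency.types false
universe u

namespace Groth.Agent.LeffGlue

open CategoryTheory CategoryTheory.Limits AlgebraicGeometry TopologicalSpace Opposite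
open Groth.Agent.K0Dev (St)

noncomputable section

variable {X : Scheme.{u}} [IsLocallyNoetherian X] (I : X.IdealSheafData)

/-- Near any closed subscheme, a coherent module with levelwise locally free completion is locally free. -/
theorem exists_free_nhd {E : X.Modules} (hE : Coh.IsCoh E)
    (h : ∀ n, FlatMod.IsFinLocFree ((Scheme.Modules.pullback (FSch.completionToX X I n)).obj E)) :
    ∃ U : X.Opens, (I.support : Set X) ⊆ (U : Set X) ∧ FlatMod.IsFinLocFree (E.restrict U.ι) := by
  haveI := hE.1
  have hfp : CohB1.IsFP E := QC.isFP_of_isQCoh_of_isFT (hM := hE.1) hE.2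
  have hfree : ∀ x ∈ (I.support : Set X), DCohLocus.FreeAt E x := by
    intro x hx
    haveI : Module.Finite (X.presheaf.stalk x) (E.presheaf.stalk x) := RegDual.finite_stalk hE x
    refine ⟨LeffAmple.free_of_levels (idealAt I x) ?_ fun n => ?_, inferInstance⟩
    · obtain ⟨z, rfl⟩ := LeffAmple.mem_range (I := I) 0 hx
      have h1 : idealAt I ((I ^ (0 + 1)).subschemeι z) = RingHom.ker ((I ^ (0 + 1)).subschemeι.stalkMap z).hom := by
        rw [ker_stalkMap (I ^ (0 + 1)).subschemeι z, Scheme.IdealSheafData.ker_subschemeι, idealAt_pow]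
        exact (pow_one _).symm
      exact h1.le.trans (IsLocalRing.le_maximalIdeal (RingHom.ker_ne_top _))
    · obtain ⟨z, rfl⟩ := LeffAmple.mem_range (I := I) n hx
      let j := FSch.completionToX X I n
      have hk : RingHom.ker (j.stalkMap z).hom = idealAt I (j z) ^ (n + 1) := by
        rw [ker_stalkMap j z, Scheme.IdealSheafData.ker_subschemeι, idealAt_pow]
      refine ⟨_, inferInstance, (j.stalkMap z).hom, _, inferInstance, inferInstance, KFlat.kap j z E,
        j.stalkMap_surjective z, hk, LocFree.free_stalk_of_isFinLocFree (h n) z, KFlat.kap_smul j z E,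
        GrothSS.kap_surjective j z E, fun v hv => ?_⟩
      have := (LeffAmple.kap_eq_zero_iff j z E v).1 hv
      rw [hk] at this
      exact this
  choose U hxU hU using fun x : I.support => DCohLocus.exists_free_near E hE.1 hfp (hfree x.1 x.2)
  refine ⟨⨆ x, U x, fun x hx => Opens.mem_iSup.2 ⟨⟨x, hx⟩, hxU ⟨x, hx⟩⟩, ?_⟩
  let V := ⨆ x, U x
  have hEV : Coh.IsQCoh (E.restrict V.ι) := (inferInstance : (E.restrict V.ι).IsQuasicoherent)
  have hFP : CohB1.IsFP (E.restrict V.ι) :=
    QC.isFP_of_isQCoh_of_isFT (hM := hEV) (QC.isFT_restrict V.ι hE.2)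
  refine LocFree.isFinLocFree_of_isFP_of_flat hEV hFP fun y => ?_
  obtain ⟨x, hx⟩ := Opens.mem_iSup.1 y.2
  have h1 : DCohLocus.FreeAt E y.1 :=
    (DCohLocus.freeAt_restrict_iff E (U x) ⟨y.1, hx⟩).1 (DCohLocus.freeAt_of_isFinLocFree (hU x) _)
  haveI := ((DCohLocus.freeAt_restrict_iff E V y).2 h1).1
  exact (inferInstance : Module.Flat ((V : Scheme.{u}).presheaf.stalk y) ((E.restrict V.ι).presheaf.stalk y))

/-- A coherent algebraization restricts to a locally free one near the closed subscheme. -/
theorem exists_nhd_of_coh (𝔐 : FSch.ModSys (FSch.completionAlong X I)) (h𝔐 : ∀ n, FlatMod.IsFinLocFree (𝔐.F n))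
    {E : X.Modules} (hE : Coh.IsCoh E) (e : FSch.completionMod I E ≅ 𝔐) :
    ∃ (U : X.Opens) (E' : (U : Scheme.{u}).Modules), (I.support : Set X) ⊆ (U : Set X) ∧ FlatMod.IsFinLocFree E' ∧
      Nonempty (FSch.completionMod I ((Scheme.Modules.pushforward U.ι).obj E') ≅ 𝔐) := by
  obtain ⟨U, hU, hfree⟩ := exists_free_nhd I hE fun n => DQCoh.isFinLocFree_of_iso'
    (⟨e.inv.app n, e.hom.app n, congrArg (fun φ => φ.app n) e.inv_hom_id,
      congrArg (fun φ => φ.app n) e.hom_inv_id⟩ : 𝔐.F n ≅ _) (h𝔐 n)
  obtain ⟨e'⟩ := LeffAmple.exists_completion_restrict U hU E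
  exact ⟨U, E.restrict U.ι, hU, hfree, ⟨e' ≪≫ e⟩⟩

end

end Groth.Agent.LeffGlue
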