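import Groth.Agent.LeffGlue.System
import Groth.Agent.LeffGlue.Fibre
import Groth.Agent.SerrePn.ClosedDepth
import Groth.Agent.LocFree.Props

/-!
Algebraizing a levelwise locally free system from its restriction to a closed subscheme meeting a power of
the ideal trivially.
-/

set_option autoImplicit false
set_option maxHeartbeats 1000000
set_option linter.style.haveILetI false
set_option linter.unusedSectionVars false
set_option backward.isDefEq.respectTransparency false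
set_option backward.isDefEq.respectTransparency.types false
universe u

namespace Groth.Agent.LeffGlue

open CategoryTheory CategoryTheory.Limits AlgebraicGeometry TopologicalSpace Opposite
open Groth.Agent.K0Dev (St)
open FormAlg (sysObj sysTn)
open LeffAmple (tr tr_comp tr_succ)

noncomputable section

/-- Free modules modulo an ideal: submodules cut out by ideals meeting trivially. -/
theorem eq_zero_of_inf {R S : Type u} [CommRing R] [CommRing S] (φ : R →+* S) (hφ : Function.Surjective φ)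
    {P N : Type u} [AddCommGroup P] [Module R P] [AddCommGroup N] [Module S N] [Module.Free S N] (g : P →+ N)
    (hg : Function.Injective g) (hsmul : ∀ (r : R) (v : P), g (r • v) = φ r • g v) {A T : Ideal R}
    (hk : RingHom.ker φ ≤ A) (hAT : A ⊓ T = ⊥) {v : P} (hA : v ∈ A • (⊤ : Submodule R P))
    (hT : v ∈ T • (⊤ : Submodule R P)) : v = 0 := by
  let b := Module.Free.chooseBasis S N
  have key : ∀ (I : Ideal R) (w : P), w ∈ I • (⊤ : Submodule R P) → ∀ i, b.repr (g w) i ∈ I.map φ := by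
    intro I w hw i
    refine Submodule.smul_induction_on hw (fun r hr m _ => ?_) fun p q hp hq => ?_
    · rw [hsmul, map_smul, Finsupp.smul_apply, smul_eq_mul]
      exact Ideal.mul_mem_right _ _ (Ideal.mem_map_of_mem _ hr)
    · rw [map_add, map_add, Finsupp.add_apply]
      exact add_mem hp hq
  refine hg ((b.repr.injective (Finsupp.ext fun i => ?_)).trans (map_zero g).symm)
  rw [map_zero, Finsupp.zero_apply]
  obtain ⟨r, hr, e⟩ := (Ideal.mem_map_iff_of_surjective _ hφ).1 (key A v hA i)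
  obtain ⟨s, hs, e'⟩ := (Ideal.mem_map_iff_of_surjective _ hφ).1 (key T v hT i)
  have h1 : s - r ∈ RingHom.ker φ := by rw [RingHom.mem_ker, map_sub, e, e', sub_self]
  have h2 : s ∈ A ⊓ T := ⟨by simpa using add_mem (hk h1) hr, hs⟩
  rw [hAT, Ideal.mem_bot] at h2
  rw [← e', h2, map_zero]

variable {X : Scheme.{u}} {J : X.IdealSheafData} (𝔐 : FSch.ModSys (FSch.completionAlong X J))
  {Z : Scheme.{u}} (a : Z ⟶ X) [IsClosedImmersion a]

theorem eq_zero_of_tr_of_p (h𝔐 : ∀ n, FlatMod.IsFinLocFree (𝔐.F n)) {c : ℕ} (hc : a.ker ⊓ J ^ (c + 1) = ⊥)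
    {n : ℕ} (h : c ≤ n) (x : X) {v : (sysObj 𝔐 n).presheaf.stalk x} (h1 : sm x (tr 𝔐 h) v = 0)
    (h2 : sm x (p 𝔐 a n) v = 0) : v = 0 := by
  have hA := ((tr_sm 𝔐 h x).2 v).1 h1
  have hT := ((p_sm 𝔐 a n x).2 v).1 h2
  by_cases hx : x ∈ (J.support : Set X)
  · obtain ⟨z, rfl⟩ := LeffAmple.mem_range n hx
    let j := FSch.completionToX X J n
    haveI := LocFree.free_stalk_of_isFinLocFree (h𝔐 n) z
    refine eq_zero_of_inf (N := (𝔐.F n).presheaf.stalk z) (j.stalkMap z).hom (j.stalkMap_surjective z)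
      (KFlat.pushStalk j z (𝔐.F n)) (KFlat.pushStalk_bijective j z _).1 (KFlat.pushStalk_smul j z _) ?_ ?_ hA hT
    · rw [ker_stalkMap j z, idealAt_completion]
      exact Ideal.pow_le_pow_right (by omega)
    · rw [inf_comm, ← idealAt_pow]
      exact idealAt_inf hc _
  · haveI := LeffAmple.subsingleton_stalk 𝔐 n hx
    exact Subsingleton.elim _ _

/-- The transition maps of the restricted system on the ambient scheme. -/
def qtr {m n : ℕ} (h : m ≤ n) : (Scheme.Modules.pushforward a).obj (sysObj (restr 𝔐 a) n) ⟶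
    (Scheme.Modules.pushforward a).obj (sysObj (restr 𝔐 a) m) :=
  (Scheme.Modules.pushforward a).map (tr (restr 𝔐 a) h)

theorem p_qtr {m n : ℕ} (h : m ≤ n) : p 𝔐 a n ≫ qtr 𝔐 a h = tr 𝔐 h ≫ p 𝔐 a m := by
  induction n, h using Nat.le_induction with
  | base =>
    rw [qtr, LeffAmple.tr_refl, LeffAmple.tr_refl, CategoryTheory.Functor.map_id, Category.id_comp]
    exact Category.comp_id _
  | succ n hmn ih =>
    rw [qtr] at ih
    rw [qtr, ← tr_comp (restr 𝔐 a) hmn (Nat.le_succ n), tr_succ, Functor.map_comp, ← Category.assoc, p_comm,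
      Category.assoc, ih, ← Category.assoc, ← tr_succ, tr_comp]

/-- The map to the fibre product. -/
def lam {c n : ℕ} (h : c ≤ n) : sysObj 𝔐 n ⟶ fib (qtr 𝔐 a h) (p 𝔐 a c) :=
  fibLift (p 𝔐 a n) (tr 𝔐 h) (p_qtr 𝔐 a h)

theorem isIso_lam (h𝔐 : ∀ n, FlatMod.IsFinLocFree (𝔐.F n)) {c : ℕ} (hc : a.ker ⊓ J ^ (c + 1) = ⊥)
    {n : ℕ} (h : c ≤ n) : IsIso (lam 𝔐 a h) := by
  refine isIso_of_sm _ fun x => ?_
  have e₁ : ∀ v, sm x (fibFst _ _) (sm x (lam 𝔐 a h) v) = sm x (p 𝔐 a n) v := fun v => by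
    rw [← sm_comp, lam, fibLift_fst]
  have e₂ : ∀ v, sm x (fibSnd _ _) (sm x (lam 𝔐 a h) v) = sm x (tr 𝔐 h) v := fun v => by
    rw [← sm_comp, lam, fibLift_snd]
  refine ⟨(injective_iff_map_eq_zero _).2 fun v hv => eq_zero_of_tr_of_p 𝔐 a h𝔐 hc h x ?_ ?_, fun e => ?_⟩
  · rw [← e₂, hv, map_zero]
  · rw [← e₁, hv, map_zero]
  · obtain ⟨v, hv⟩ := (p_sm 𝔐 a n x).1 (sm x (fibFst _ _) e)
    obtain ⟨trs, -⟩ := tr_sm 𝔐 h x
    have hw : sm x (p 𝔐 a c) (sm x (fibSnd _ _) e - sm x (tr 𝔐 h) v) = 0 := by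
      rw [map_sub, ← sm_comp, ← sm_comp, ← fib_condition, ← p_qtr, sm_comp, sm_comp, hv, sub_self]
    obtain ⟨d, hd, ed⟩ := mem_smul_top_map _ trs _ (((p_sm 𝔐 a c x).2 _).1 hw)
    refine ⟨v + d, fib_sm_ext x ?_ ?_⟩
    · rw [e₁, map_add, ((p_sm 𝔐 a n x).2 d).2 hd, add_zero, hv]
    · rw [e₂, map_add, ed, add_sub_cancel]

variable (G : Z.Modules)

/-- The map from the algebraization on the subscheme. -/
def η (θ : FSch.completionMod (J.comap a) G ≅ restr 𝔐 a) (n : ℕ) :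
    (Scheme.Modules.pushforward a).obj G ⟶ (Scheme.Modules.pushforward a).obj (sysObj (restr 𝔐 a) n) :=
  (Scheme.Modules.pushforward a).map
    ((Scheme.Modules.pullbackPushforwardAdjunction (FSch.completionToX Z (J.comap a) n)).homEquiv G
      ((restr 𝔐 a).F n) (θ.hom.app n))

variable (θ : FSch.completionMod (J.comap a) G ≅ restr 𝔐 a)

theorem η_comm (n : ℕ) : η 𝔐 a G θ (n + 1) ≫ (Scheme.Modules.pushforward a).map (sysTn (restr 𝔐 a) n) = η 𝔐 a G θ n :=
  ((Scheme.Modules.pushforward a).map_comp _ _).symm.trans (congrArg (Scheme.Modules.pushforward a).map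
    (LeffAmple.adjunct_comm (restr 𝔐 a) G (fun n => θ.hom.app n) n
      ((θ.hom.comm n).trans (congrArg (· ≫ θ.hom.app n) (FormAlg.completionMod_e_hom G n)))))

theorem η_qtr {m n : ℕ} (h : m ≤ n) : η 𝔐 a G θ n ≫ qtr 𝔐 a h = η 𝔐 a G θ m := by
  induction n, h using Nat.le_induction with
  | base =>
    rw [qtr, LeffAmple.tr_refl, CategoryTheory.Functor.map_id]
    exact Category.comp_id _
  | succ n hmn ih =>
    rw [qtr] at ih
    rw [qtr, ← tr_comp (restr 𝔐 a) hmn (Nat.le_succ n), tr_succ, Functor.map_comp, ← Category.assoc, η_comm, ih]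

theorem η_sm (n : ℕ) (x : X) :
    Function.Surjective (sm x (η 𝔐 a G θ n)) ∧ ∀ v, sm x (η 𝔐 a G θ n) v = 0 ↔
      v ∈ idealAt J x ^ (n + 1) •
        (⊤ : Submodule (X.presheaf.stalk x) (((Scheme.Modules.pushforward a).obj G).presheaf.stalk x)) := by
  refine push_sm a _ x (idealAt J x ^ (n + 1)) fun z hz => ?_
  subst hz
  rw [Ideal.map_pow, ← idealAt_comap J a z, ← idealAt_completion (J.comap a) n z]
  exact adjunct_sm (FSch.completionToX Z (J.comap a) n)
    (⟨θ.hom.app n, θ.inv.app n, congrArg (fun φ => φ.app n) θ.hom_inv_id,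
      congrArg (fun φ => φ.app n) θ.inv_hom_id⟩ :
        (Scheme.Modules.pullback (FSch.completionToX Z (J.comap a) n)).obj G ≅ (restr 𝔐 a).F n) z

/-- The glued module. -/
def glue (c : ℕ) : X.Modules := fib (η 𝔐 a G θ c) (p 𝔐 a c)

theorem nu_condition {c n : ℕ} (h : c ≤ n) :
    (fibFst (η 𝔐 a G θ c) (p 𝔐 a c) ≫ η 𝔐 a G θ n) ≫ qtr 𝔐 a h = fibSnd (η 𝔐 a G θ c) (p 𝔐 a c) ≫ p 𝔐 a c := by
  rw [Category.assoc, η_qtr, fib_condition]

/-- The glued module algebraizes the system. -/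
theorem exists_completion_iso (h𝔐 : ∀ n, FlatMod.IsFinLocFree (𝔐.F n)) {c : ℕ} (hc : a.ker ⊓ J ^ (c + 1) = ⊥) :
    Nonempty (FSch.completionMod J (glue 𝔐 a G θ c) ≅ 𝔐) := by
  let fs := fibFst (η 𝔐 a G θ c) (p 𝔐 a c)
  let sn := fibSnd (η 𝔐 a G θ c) (p 𝔐 a c)
  haveI : ∀ (n : ℕ) (h : c ≤ n), IsIso (lam 𝔐 a h) := fun n h => isIso_lam 𝔐 a h𝔐 hc h
  let μ : ∀ n : ℕ, c ≤ n → (glue 𝔐 a G θ c ⟶ sysObj 𝔐 n) := fun n h =>
    fibLift (fs ≫ η 𝔐 a G θ n) sn (nu_condition 𝔐 a G θ h) ≫ inv (lam 𝔐 a h)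
  have hμp : ∀ n h, μ n h ≫ p 𝔐 a n = fs ≫ η 𝔐 a G θ n := fun n h => by
    have e : inv (lam 𝔐 a h) ≫ p 𝔐 a n = fibFst _ _ := by
      rw [IsIso.inv_comp_eq, lam, fibLift_fst]
    exact (Category.assoc _ _ _).trans ((congrArg (_ ≫ ·) e).trans (fibLift_fst _ _ _))
  have hμt : ∀ n h, μ n h ≫ tr 𝔐 h = sn := fun n h => by
    have e : inv (lam 𝔐 a h) ≫ tr 𝔐 h = fibSnd _ _ := by
      rw [IsIso.inv_comp_eq, lam, fibLift_snd]
    exact (Category.assoc _ _ _).trans ((congrArg (_ ≫ ·) e).trans (fibLift_snd _ _ _))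
  have hμ : ∀ n (h : c ≤ n), μ (n + 1) (h.trans (Nat.le_succ n)) ≫ sysTn 𝔐 n = μ n h := fun n h => by
    refine (cancel_mono (lam 𝔐 a h)).1 (fib_hom_ext ?_ ?_)
    · simp only [Category.assoc, lam, fibLift_fst]
      rw [hμp n h, ← p_comm, ← Category.assoc, hμp, Category.assoc, η_comm]
    · simp only [Category.assoc, lam, fibLift_snd]
      rw [hμt n h, ← tr_succ, tr_comp, hμt]
  let φ : ∀ n, glue 𝔐 a G θ c ⟶ sysObj 𝔐 n := fun n =>
    μ (c + n) (Nat.le_add_right c n) ≫ tr 𝔐 (Nat.le_add_left n c)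
  have hφ : ∀ n, φ (n + 1) ≫ sysTn 𝔐 n = φ n := fun n => by
    show (μ (c + n + 1) _ ≫ tr 𝔐 _) ≫ _ = _
    rw [Category.assoc, ← tr_succ, tr_comp, ← tr_comp 𝔐 (Nat.le_add_left n c) (Nat.le_succ (c + n)), tr_succ,
      ← Category.assoc, hμ (c + n) (Nat.le_add_right c n)]
  have hiso : ∀ n, IsIso (FormAlg.adjMap 𝔐 (glue 𝔐 a G θ c) n (φ n)) := fun n => by
    refine isIso_adjunct (FSch.completionToX X J n) (φ n) fun z => ?_
    rw [idealAt_completion]
    set x := (FSch.completionToX X J n) z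
    set N := c + n
    have hN : c ≤ N := Nat.le_add_right c n
    have kN : ∀ e, sm x (μ N hN) e = 0 → e ∈ idealAt J x ^ (N + 1) •
        (⊤ : Submodule (X.presheaf.stalk x) ((glue 𝔐 a G θ c).presheaf.stalk x)) := fun e he => by
      have h1 : sm x (η 𝔐 a G θ N) (sm x fs e) = 0 :=
        (sm_comp x fs _ e).symm.trans ((congrArg (sm x · e) (hμp N hN).symm).trans
          ((sm_comp x _ _ e).trans ((congrArg _ he).trans (map_zero _))))
      have h2 : sm x sn e = 0 :=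
        (congrArg (sm x · e) (hμt N hN).symm).trans ((sm_comp x _ _ e).trans ((congrArg _ he).trans (map_zero _)))
      have key : ∀ d, d ∈ idealAt J x ^ (N + 1) •
          (⊤ : Submodule (X.presheaf.stalk x) (((Scheme.Modules.pushforward a).obj G).presheaf.stalk x)) →
          ∃ e' ∈ idealAt J x ^ (N + 1) • (⊤ : Submodule (X.presheaf.stalk x) ((glue 𝔐 a G θ c).presheaf.stalk x)),
            sm x fs e' = d := fun d hd => by
        refine mem_smul_top_map _ (fun w => ?_) _ hd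
        obtain ⟨u, hu⟩ := (p_sm 𝔐 a c x).1 (sm x (η 𝔐 a G θ c) w)
        obtain ⟨e', he', -⟩ := fib_sm_exists x w u hu.symm
        exact ⟨e', he'⟩
      obtain ⟨e', he', e''⟩ := key _ (((η_sm 𝔐 a G θ N x).2 _).1 h1)
      have h3 : sm x sn e' = 0 := by
        refine smul_sysObj_eq_zero 𝔐 c x (Submodule.smul_mono_left (Ideal.pow_le_pow_right (show c + 1 ≤ N + 1 by omega)) ?_)
        have := Submodule.mem_map_of_mem (f := sm x sn) he'
        rw [Submodule.map_smul''] at this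
        exact Submodule.smul_mono le_rfl le_top this
      exact fib_sm_ext x e''.symm (h2.trans h3.symm) ▸ he'
    have sN : Function.Surjective (sm x (μ N hN)) := fun v => by
      obtain ⟨d, hd⟩ := (η_sm 𝔐 a G θ N x).1 (sm x (p 𝔐 a N) v)
      obtain ⟨e, he₁, he₂⟩ := fib_sm_exists (g := η 𝔐 a G θ c) (h := p 𝔐 a c) x d (sm x (tr 𝔐 hN) v) (by
        rw [← η_qtr 𝔐 a G θ hN, sm_comp, hd, ← sm_comp, p_qtr, sm_comp])
      refine ⟨e, sub_eq_zero.1 (eq_zero_of_tr_of_p 𝔐 a h𝔐 hc hN x ?_ ?_)⟩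
      · refine (map_sub (sm x (tr 𝔐 hN)) _ _).trans (sub_eq_zero.2 ?_)
        exact (sm_comp x _ _ e).symm.trans ((congrArg (sm x · e) (hμt N hN)).trans he₂)
      · refine (map_sub (sm x (p 𝔐 a N)) _ _).trans (sub_eq_zero.2 ?_)
        exact (sm_comp x _ _ e).symm.trans ((congrArg (sm x · e) (hμp N hN)).trans
          ((sm_comp x fs _ e).trans ((congrArg _ he₁).trans hd)))
    obtain ⟨ts, tk⟩ := tr_sm 𝔐 (Nat.le_add_left n c) x
    have eφ : ∀ e, sm x (φ n) e = sm x (tr 𝔐 (Nat.le_add_left n c)) (sm x (μ N hN) e) := fun e => sm_comp x _ _ e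
    refine ⟨fun w => ?_, fun e he => ?_⟩
    · obtain ⟨v, rfl⟩ := ts w
      obtain ⟨e, rfl⟩ := sN v
      exact ⟨e, eφ e⟩
    · obtain ⟨e', he', e''⟩ := mem_smul_top_map _ sN _ ((tk _).1 ((eφ e).symm.trans he))
      have h4 := kN (e - e') (by rw [map_sub, e'', sub_self])
      have h5 := Submodule.smul_mono_left (Ideal.pow_le_pow_right (show n + 1 ≤ N + 1 by omega)) h4
      simpa using add_mem h5 he'
  exact ⟨FormAlg.completionModIso 𝔐 _ (fun n => @asIso _ _ _ _ (FormAlg.adjMap 𝔐 _ n (φ n)) (hiso n))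
    (FormAlg.adjMap_comm 𝔐 _ φ hφ)⟩

theorem isCoh_glue [IsLocallyNoetherian X] (h𝔐 : ∀ n, FlatMod.IsFinLocFree (𝔐.F n)) (hG : Coh.IsCoh G) (c : ℕ) :
    Coh.IsCoh (glue 𝔐 a G θ c) := by
  haveI : IsLocallyNoetherian Z := LocallyOfFiniteType.isLocallyNoetherian a
  exact isCoh_fib (SerrePn.isCoh_push a hG) (LeffAmple.isCoh_sysObj 𝔐 h𝔐 c)
    (SerrePn.isCoh_push a (LeffAmple.isCoh_sysObj (restr 𝔐 a) (isFinLocFree_restr 𝔐 a h𝔐) c)).1

end

end Groth.Agent.LeffGlue
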