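import Groth.Agent.LeffGlue.Glue
import Groth.Agent.LeffGlue.Free
import Groth.Agent.LeffKill.Reduce
import Groth.Agent.K0Hom.KGen

/-!
Algebraization of formal locally free modules along the zero scheme of a section of an ample invertible module.
-/

set_option autoImplicit false
set_option maxHeartbeats 1000000
set_option linter.style.haveILetI false
set_option linter.unusedSectionVars false
set_option backward.isDefEq.respectTransparency false
set_option backward.isDefEq.respectTransparency.types false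
universe u

namespace Groth.Agent.LeffGlue

open CategoryTheory CategoryTheory.Limits AlgebraicGeometry TopologicalSpace Opposite

noncomputable section

variable {X : Scheme.{u}} {L : X.Modules}

/-- The schematic closure of the generating locus inherits the depth condition. -/
theorem depth_cond [IsNoetherian X] (hL : PicF.IsInvertible L) (s : Coh.structureModule X ⟶ L)
    (hd : ∀ x : X, x ∉ ((PicF2.zeroScheme L s).support : Set X) → (2 : WithBot ℕ∞) <
      (LocCoh.depth (X.presheaf.stalk x) (X.presheaf.stalk x) : WithBot ℕ∞) +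
        topologicalKrullDim ↥(closure ({x} : Set X)))
    (x : (CohB1.genLocus L s).ι.ker.subscheme)
    (hx : x ∉ ((PicF2.zeroScheme ((Scheme.Modules.pullback (CohB1.genLocus L s).ι.ker.subschemeι).obj L)
      (AbelMap.pullSec (CohB1.genLocus L s).ι.ker.subschemeι s)).support : Set _)) :
    (2 : WithBot ℕ∞) < (LocCoh.depth ((CohB1.genLocus L s).ι.ker.subscheme.presheaf.stalk x)
        ((CohB1.genLocus L s).ι.ker.subscheme.presheaf.stalk x) : WithBot ℕ∞) +
      topologicalKrullDim ↥(closure ({x} : Set (CohB1.genLocus L s).ι.ker.subscheme)) := by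
  let J := PicF2.zeroScheme L s
  let U := CohB1.genLocus L s
  have hUJ : (J.support : Set X) = (U : Set X)ᶜ := NegTwist.coe_support_zeroScheme hL s
  haveI : QuasiCompact U.ι := inferInstance
  let T := U.ι.ker
  let a := T.subschemeι
  haveI : IsLocallyNoetherian T.subscheme := LocallyOfFiniteType.isLocallyNoetherian a
  rw [AbelMap.zeroScheme_pullSec a hL s, Scheme.IdealSheafData.support_comap] at hx
  have hxU : a x ∈ U := by
    by_contra hc'
    exact hx (show a x ∈ (J.support : Set X) by rw [hUJ]; exact hc')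
  let g : (U : Scheme.{u}) ⟶ T.subscheme := U.ι.toImage
  have hga : g ≫ a = U.ι := U.ι.toImage_imageι
  obtain ⟨z, hz⟩ : ∃ z, g z = x := ⟨⟨a x, hxU⟩, a.isClosedEmbedding.injective
    ((Scheme.Hom.comp_apply g a _).symm.trans (by rw [hga]; rfl))⟩
  have hbij : Function.Bijective (a.stalkMap x).hom := by
    refine ⟨?_, a.stalkMap_surjective x⟩
    subst hz
    have h1 : Function.Injective ((g ≫ a).stalkMap z).hom := by
      haveI : IsOpenImmersion (g ≫ a) := by rw [hga]; infer_instance
      exact (ConcreteCategory.bijective_of_isIso ((g ≫ a).stalkMap z)).1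
    rw [Scheme.Hom.stalkMap_comp, CommRingCat.hom_comp, RingHom.coe_comp] at h1
    exact h1.of_comp
  show (2 : WithBot ℕ∞) < _
  rw [← LefDepth.dim_closure_image a.isClosedEmbedding x,
    Purity.depth_eq_of_ringEquiv (RingEquiv.ofBijective _ hbij)]
  refine hd (a x) ?_
  show a x ∉ (J.support : Set X)
  rw [hUJ]
  exact fun h => h hxU

/-- A coherent module extending a locally free one on an open neighbourhood. -/
theorem exists_coh_completion [IsNoetherian X] (K : X.IdealSheafData) (U : X.Opens)
    (hU : (K.support : Set X) ⊆ (U : Set X)) {E : (U : Scheme.{u}).Modules} (hE : FlatMod.IsFinLocFree E) :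
    ∃ G : X.Modules, Coh.IsCoh G ∧
      Nonempty (FSch.completionMod K G ≅ FSch.completionMod K ((Scheme.Modules.pushforward U.ι).obj E)) := by
  obtain ⟨G, hG, ⟨φ⟩⟩ := K0Hom.exists_coh_extend U.ι
    (M := E) ⟨LocFree.isQCoh_of_isFinLocFree hE, LocFree.isFT_of_isFinLocFree hE⟩
  obtain ⟨e₁⟩ := LeffAmple.exists_completion_restrict U hU G
  let η : (Scheme.Modules.pushforward U.ι).obj E ⟶ (Scheme.Modules.pushforward U.ι).obj (G.restrict U.ι) :=
    (Scheme.Modules.pushforward U.ι).map (φ.inv ≫ ((Scheme.Modules.restrictFunctorIsoPullback U.ι).app G).inv)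
  haveI : IsIso η := inferInstanceAs (IsIso ((Scheme.Modules.pushforward U.ι).map _))
  obtain ⟨e₂⟩ := LeffAmple.exists_completion_of_isIso (I := K) η fun n => inferInstance
  exact ⟨G, hG, ⟨e₁.symm ≪≫ e₂⟩⟩

/-- Formal locally free modules along the zero scheme of a section of an ample invertible module algebraize. -/
theorem exists_algebraization (k : Type u) [Field k] [X.Over (Spec (CommRingCat.of k))]
    [IsProper (X ↘ Spec (CommRingCat.of k))] (hamp : CohB1.IsAmple L) (s : Coh.structureModule X ⟶ L)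
    (hd : ∀ x : X, x ∉ ((PicF2.zeroScheme L s).support : Set X) → (2 : WithBot ℕ∞) <
      (LocCoh.depth (X.presheaf.stalk x) (X.presheaf.stalk x) : WithBot ℕ∞) +
        topologicalKrullDim ↥(closure ({x} : Set X)))
    (𝔐 : FSch.ModSys (FSch.completionAlong X (PicF2.zeroScheme L s))) (h𝔐 : LefX.LevelwiseFinLocFree 𝔐) :
    ∃ (U : X.Opens) (E : (U : Scheme.{u}).Modules), ((PicF2.zeroScheme L s).support : Set X) ⊆ (U : Set X) ∧
      FlatMod.IsFinLocFree E ∧
      Nonempty (FSch.completionMod (PicF2.zeroScheme L s) ((Scheme.Modules.pushforward U.ι).obj E) ≅ 𝔐) := by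
  haveI : IsLocallyNoetherian X := LocallyOfFiniteType.isLocallyNoetherian (X ↘ Spec (CommRingCat.of k))
  haveI : CompactSpace X := QuasiCompact.compactSpace_of_compactSpace (X ↘ Spec (CommRingCat.of k))
  haveI : IsNoetherian X := ⟨⟩
  let J := PicF2.zeroScheme L s
  let U := CohB1.genLocus L s
  have hUJ : (J.support : Set X) = (U : Set X)ᶜ := NegTwist.coe_support_zeroScheme hamp.1 s
  haveI : QuasiCompact U.ι := inferInstance
  let T := U.ι.ker
  obtain ⟨c, hc⟩ := LeffKill.exists_pow_inf J U (by rw [hUJ, compl_compl])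
  let a := T.subschemeι
  letI : T.subscheme.Over (Spec (CommRingCat.of k)) := ⟨a ≫ (X ↘ Spec (CommRingCat.of k))⟩
  haveI : IsProper (T.subscheme ↘ Spec (CommRingCat.of k)) :=
    inferInstanceAs (IsProper (a ≫ (X ↘ Spec (CommRingCat.of k))))
  haveI : IsLocallyNoetherian T.subscheme :=
    LocallyOfFiniteType.isLocallyNoetherian (a ≫ (X ↘ Spec (CommRingCat.of k)))
  haveI : CompactSpace T.subscheme :=
    QuasiCompact.compactSpace_of_compactSpace (a ≫ (X ↘ Spec (CommRingCat.of k)))
  haveI : IsNoetherian T.subscheme := ⟨⟩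
  haveI := LeffKill.mono_pullSec hamp.1 s
  have hleff := LeffKill.leffCond k (TMul.isAmple_pullback_of_isAffineHom a hamp) (AbelMap.pullSec a s)
    (depth_cond hamp.1 s hd)
  rw [show PicF2.zeroScheme ((Scheme.Modules.pullback a).obj L) (AbelMap.pullSec a s) = J.comap a from
    AbelMap.zeroScheme_pullSec a hamp.1 s] at hleff
  have h𝔐' : ∀ n, FlatMod.IsFinLocFree (𝔐.F n) := h𝔐
  obtain ⟨U', E', hU', hE', ⟨θ'⟩⟩ := hleff.2 (restr 𝔐 a) (isFinLocFree_restr 𝔐 a h𝔐')
  obtain ⟨G, hG, ⟨θ⟩⟩ := exists_coh_completion (J.comap a) U' hU' hE'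
  obtain ⟨e⟩ := exists_completion_iso 𝔐 a G (θ ≪≫ θ') h𝔐' (c := c)
    (by rw [Scheme.IdealSheafData.ker_subschemeι]; exact hc)
  exact exists_nhd_of_coh J 𝔐 h𝔐' (isCoh_glue 𝔐 a G (θ ≪≫ θ') h𝔐' hG c) e

end

end Groth.Agent.LeffGlue
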