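import Groth.Agent.LeffAmple.Stalk
import Groth.Agent.FpqcDescent.IdealGlue
import Groth.Agent.CMFlat.RegImm
import Groth.Agent.KFlat.PullTensor

/-!
Ideals of closed subschemes in the stalks, and adjuncts along closed immersions on stalks.
-/

set_option autoImplicit false
set_option maxHeartbeats 1000000
set_option linter.style.haveILetI false
set_option linter.unusedSectionVars false
set_option backward.isDefEq.respectTransparency false
set_option backward.isDefEq.respectTransparency.types false
universe u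

namespace Groth.Agent.LeffGlue

open CategoryTheory CategoryTheory.Limits AlgebraicGeometry TopologicalSpace Opposite
open Groth.Agent.K0Dev (St)

noncomputable section

variable {X Z : Scheme.{u}} (J : X.IdealSheafData)

theorem exists_affine (x : X) : ∃ U : X.affineOpens, x ∈ U.1 := by
  obtain ⟨V, hV, hxV, -⟩ := exists_isAffineOpen_mem_and_subset (x := x) (U := (⊤ : X.Opens)) trivial
  exact ⟨⟨V, hV⟩, hxV⟩

/-- The ideal in the stalk. -/
def idealAt (x : X) : Ideal (X.presheaf.stalk x) :=
  (J.ideal (exists_affine x).choose).map (X.presheaf.germ _ x (exists_affine x).choose_spec).hom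

theorem map_germ_res {U V : X.affineOpens} (h : V ≤ U) {x : X} (hx : x ∈ V.1) :
    (J.ideal V).map (X.presheaf.germ V.1 x hx).hom = (J.ideal U).map (X.presheaf.germ U.1 x (h hx)).hom := by
  rw [← Scheme.IdealSheafData.map_ideal J (U := V) (V := U) h, Ideal.map_map]
  congr 1
  ext r
  exact X.presheaf.germ_res_apply (homOfLE h) x hx r

theorem idealAt_eq (U : X.affineOpens) {x : X} (hx : x ∈ U.1) :
    idealAt J x = (J.ideal U).map (X.presheaf.germ U.1 x hx).hom := by
  obtain ⟨W, hW, hxW, hle⟩ := exists_isAffineOpen_mem_and_subset (x := x) (U := U.1 ⊓ (exists_affine x).choose.1)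
    ⟨hx, (exists_affine x).choose_spec⟩
  rw [idealAt, ← map_germ_res J (U := (exists_affine x).choose) (V := ⟨W, hW⟩) (fun y hy => (hle hy).2) hxW,
    ← map_germ_res J (U := U) (V := ⟨W, hW⟩) (fun y hy => (hle hy).1) hxW]

theorem idealAt_pow (n : ℕ) (x : X) : idealAt (J ^ n) x = idealAt J x ^ n := by
  obtain ⟨U, hU⟩ := exists_affine x
  rw [idealAt_eq _ U hU, idealAt_eq _ U hU, Scheme.IdealSheafData.ideal_pow, Pi.pow_apply, Ideal.map_pow]

theorem idealAt_mono {J K : X.IdealSheafData} (h : J ≤ K) (x : X) : idealAt J x ≤ idealAt K x := by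
  obtain ⟨U, hU⟩ := exists_affine x
  rw [idealAt_eq _ U hU, idealAt_eq _ U hU]
  exact Ideal.map_mono (h U)

theorem idealAt_of_notMem {x : X} (hx : x ∉ (J.support : Set X)) : idealAt J x = ⊤ := by
  obtain ⟨U, hU⟩ := exists_affine x
  by_contra h
  have hle := IsLocalRing.le_maximalIdeal h
  rw [idealAt_eq _ U hU] at hle
  apply hx
  refine (Scheme.IdealSheafData.mem_support_iff_of_mem (I := J) hU).2 ?_
  rw [Scheme.mem_zeroLocus_iff]
  intro f hf hxf
  exact (IsLocalRing.mem_maximalIdeal _).1 (hle (Ideal.mem_map_of_mem _ hf))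
    ((X.mem_basicOpen f x hU).1 hxf)

theorem ker_stalkMap (f : Z ⟶ X) [IsClosedImmersion f] (z : Z) :
    RingHom.ker (f.stalkMap z).hom = idealAt f.ker (f z) := by
  obtain ⟨U, hU⟩ := exists_affine (f z)
  rw [idealAt_eq _ U hU, CMFlat.ker_stalkMap_eq f z U hU, Scheme.Hom.ker_apply]

theorem idealAt_comap (f : Z ⟶ X) [IsClosedImmersion f] (z : Z) :
    idealAt (J.comap f) z = (idealAt J (f z)).map (f.stalkMap z).hom := by
  obtain ⟨U, hU⟩ := exists_affine (f z)
  let W : Z.affineOpens := ⟨f ⁻¹ᵁ U.1, U.2.preimage f⟩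
  rw [idealAt_eq _ U hU, idealAt_eq _ W (show z ∈ W.1 from hU),
    FpqcDescent.ideal_comap_appLE J f U W le_rfl, Ideal.map_map, Ideal.map_map]
  congr 1
  ext r
  show Z.presheaf.germ (f ⁻¹ᵁ U.1) z hU ((f.appLE U.1 (f ⁻¹ᵁ U.1) le_rfl) r) =
    f.stalkMap z (X.presheaf.germ U.1 (f z) hU r)
  rw [Scheme.Hom.germ_stalkMap_apply, ← Scheme.Hom.app_eq_appLE]

theorem idealAt_inf {T F : X.IdealSheafData} (h : T ⊓ F = ⊥) (x : X) : idealAt T x ⊓ idealAt F x = ⊥ := by
  obtain ⟨U, hU⟩ := exists_affine x
  rw [idealAt_eq _ U hU, idealAt_eq _ U hU]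
  letI := (X.presheaf.germ U.1 x hU).hom.toAlgebra
  haveI := U.2.isLocalization_stalk ⟨x, hU⟩
  show Ideal.map (algebraMap Γ(X, U.1) (X.presheaf.stalk x)) _ ⊓ Ideal.map (algebraMap _ _) _ = ⊥
  rw [← IsLocalization.map_inf (U.2.primeIdealOf ⟨x, hU⟩).asIdeal.primeCompl, ← Pi.inf_apply T.ideal,
    ← Scheme.IdealSheafData.ideal_inf, h, Scheme.IdealSheafData.ideal_bot, Pi.bot_apply, Ideal.map_bot]

/-- A morphism of modules on stalks. -/
abbrev sm (x : X) {M N : X.Modules} (g : M ⟶ N) :
    M.presheaf.stalk x →ₗ[X.presheaf.stalk x] N.presheaf.stalk x :=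
  ((St x).map g).hom

theorem sm_comp (x : X) {M N P : X.Modules} (g : M ⟶ N) (h : N ⟶ P) (v : M.presheaf.stalk x) :
    sm x (g ≫ h) v = sm x h (sm x g v) := by
  show ((St x).map (g ≫ h)).hom v = _
  rw [Functor.map_comp]; rfl

theorem sm_id (x : X) (M : X.Modules) (v : M.presheaf.stalk x) : sm x (𝟙 M) v = v := by
  show ((St x).map (𝟙 M)).hom v = _
  rw [CategoryTheory.Functor.map_id]; rfl

theorem sm_add (x : X) {M N : X.Modules} (g h : M ⟶ N) (v : M.presheaf.stalk x) :
    sm x (g + h) v = sm x g v + sm x h v := by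
  show ((St x).map (g + h)).hom v = _
  rw [Functor.map_add]; rfl

theorem sm_sub (x : X) {M N : X.Modules} (g h : M ⟶ N) (v : M.presheaf.stalk x) :
    sm x (g - h) v = sm x g v - sm x h v := by
  show ((St x).map (g - h)).hom v = _
  rw [Functor.map_sub]; rfl

theorem sm_zero (x : X) (M N : X.Modules) (v : M.presheaf.stalk x) : sm x (0 : M ⟶ N) v = 0 := by
  show ((St x).map (0 : M ⟶ N)).hom v = _
  rw [Functor.map_zero]; rfl

theorem isIso_of_sm {M N : X.Modules} (g : M ⟶ N) (h : ∀ x, Function.Bijective (sm x g)) : IsIso g :=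
  KFlat.isIso_of_stalks g fun x => (ConcreteCategory.isIso_iff_bijective _).2 (h x)

theorem mem_smul_top_map {R : Type u} [CommRing R] {M N : Type u} [AddCommGroup M] [Module R M] [AddCommGroup N]
    [Module R N] (g : M →ₗ[R] N) (hg : Function.Surjective g) (I : Ideal R) {w : N}
    (hw : w ∈ I • (⊤ : Submodule R N)) : ∃ v ∈ I • (⊤ : Submodule R M), g v = w := by
  refine Submodule.mem_map.1 ?_
  rwa [Submodule.map_smul'', Submodule.map_top, LinearMap.range_eq_top.2 hg]

variable (f : Z ⟶ X) [IsClosedImmersion f]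

theorem mem_range_of_support {x : X} (hx : x ∈ (f.ker.support : Set X)) : x ∈ Set.range f.base := by
  rw [Scheme.Hom.support_ker, f.isClosedEmbedding.isClosed_range.closure_eq] at hx
  exact hx

/-- Adjuncts of isomorphisms are surjective on stalks with the expected kernel. -/
theorem adjunct_sm {G : X.Modules} {F : Z.Modules} (ψ : (Scheme.Modules.pullback f).obj G ≅ F) (x : X) :
    Function.Surjective (sm x ((Scheme.Modules.pullbackPushforwardAdjunction f).homEquiv _ _ ψ.hom)) ∧
      ∀ m : G.presheaf.stalk x, sm x ((Scheme.Modules.pullbackPushforwardAdjunction f).homEquiv _ _ ψ.hom) m = 0 ↔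
        m ∈ idealAt f.ker x • (⊤ : Submodule (X.presheaf.stalk x) (G.presheaf.stalk x)) := by
  by_cases hx : x ∈ Set.range f.base
  · obtain ⟨z, rfl⟩ := hx
    rw [← ker_stalkMap f z]
    exact LeffAmple.adjunct_stalk f z ψ
  · haveI : Subsingleton (((Scheme.Modules.pushforward f).obj F).presheaf.stalk x) :=
      KFlat.subsingleton_stalk_push f F hx
    rw [idealAt_of_notMem f.ker fun h => hx (mem_range_of_support f h), Submodule.top_smul]
    exact ⟨fun v => ⟨0, Subsingleton.elim _ _⟩, fun m => ⟨fun _ => trivial, fun _ => Subsingleton.elim _ _⟩⟩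

/-- Stalks of a direct image are killed by the ideal. -/
theorem smul_push_eq_zero (F : Z.Modules) (x : X) {v : ((Scheme.Modules.pushforward f).obj F).presheaf.stalk x}
    (hv : v ∈ idealAt f.ker x •
      (⊤ : Submodule (X.presheaf.stalk x) (((Scheme.Modules.pushforward f).obj F).presheaf.stalk x))) : v = 0 := by
  by_cases hx : x ∈ Set.range f.base
  · obtain ⟨z, rfl⟩ := hx
    rw [← ker_stalkMap f z] at hv
    refine (KFlat.pushStalk_bijective f z F).1 (Eq.trans ?_ (map_zero _).symm)
    refine Submodule.smul_induction_on hv (fun r hr m _ => ?_) fun a b ha hb => ?_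
    · refine (KFlat.pushStalk_smul f z F r m).trans ?_
      rw [show (f.stalkMap z).hom r = 0 from hr]
      exact zero_smul (Z.presheaf.stalk z) (KFlat.pushStalk f z F m)
    · exact (map_add (KFlat.pushStalk f z F) a b).trans ((congrArg₂ (· + ·) ha hb).trans (add_zero _))
  · haveI : Subsingleton (((Scheme.Modules.pushforward f).obj F).presheaf.stalk x) :=
      KFlat.subsingleton_stalk_push f F hx
    exact Subsingleton.elim _ _

/-- A morphism to a direct image with the stalks of the restriction corresponds to an isomorphism. -/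
theorem isIso_adjunct {G : X.Modules} {F : Z.Modules} (φ : G ⟶ (Scheme.Modules.pushforward f).obj F)
    (hφ : ∀ z, Function.Surjective (sm (f z) φ) ∧ ∀ m, sm (f z) φ m = 0 →
      m ∈ idealAt f.ker (f z) • (⊤ : Submodule (X.presheaf.stalk (f z)) (G.presheaf.stalk (f z)))) :
    IsIso (((Scheme.Modules.pullbackPushforwardAdjunction f).homEquiv _ _).symm φ) := by
  refine isIso_of_sm _ fun z => ?_
  set χ := ((Scheme.Modules.pullbackPushforwardAdjunction f).homEquiv G F).symm φ with hχ
  have key : ∀ m, KFlat.pushStalk f z F (sm (f z) φ m) = sm z χ (KFlat.kap f z G m) := fun m => by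
    have := LeffAmple.pushStalk_adjunct f z χ m
    rwa [hχ, Equiv.apply_symm_apply] at this
  obtain ⟨hs, hk⟩ := hφ z
  refine ⟨(injective_iff_map_eq_zero _).2 fun w hw => ?_, fun w => ?_⟩
  · obtain ⟨m, rfl⟩ := GrothSS.kap_surjective f z G w
    refine (LeffAmple.kap_eq_zero_iff f z G m).2 ?_
    rw [ker_stalkMap f z]
    refine hk m ((KFlat.pushStalk_bijective f z F).1 ?_)
    exact (key m).trans (hw.trans (map_zero (KFlat.pushStalk f z F)).symm)
  · obtain ⟨v, hv⟩ := (KFlat.pushStalk_bijective f z F).2 w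
    obtain ⟨m, rfl⟩ := hs v
    exact ⟨_, (key m).symm.trans hv⟩

/-- Kernels of direct images. -/
theorem push_sm {G G' : Z.Modules} (h : G ⟶ G') (x : X) (I : Ideal (X.presheaf.stalk x))
    (hh : ∀ z, (hz : f z = x) → Function.Surjective (sm z h) ∧ ∀ w : G.presheaf.stalk z, sm z h w = 0 ↔
      w ∈ (hz ▸ I).map (f.stalkMap z).hom • (⊤ : Submodule (Z.presheaf.stalk z) (G.presheaf.stalk z))) :
    Function.Surjective (sm x ((Scheme.Modules.pushforward f).map h)) ∧
      ∀ v : ((Scheme.Modules.pushforward f).obj G).presheaf.stalk x,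
        sm x ((Scheme.Modules.pushforward f).map h) v = 0 ↔
          v ∈ I • (⊤ : Submodule (X.presheaf.stalk x) (((Scheme.Modules.pushforward f).obj G).presheaf.stalk x)) := by
  by_cases hx : x ∈ Set.range f.base
  · obtain ⟨z, rfl⟩ := hx
    obtain ⟨hs, hk⟩ := hh z rfl
    let P := KFlat.pushStalk f z G
    let P' := KFlat.pushStalk f z G'
    have hP := KFlat.pushStalk_bijective f z G
    have hP' := KFlat.pushStalk_bijective f z G'
    have nat := KFlat.pushStalk_natural f z h
    refine ⟨fun v => ?_, fun v => ⟨fun hv => ?_, fun hv => ?_⟩⟩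
    · obtain ⟨w, hw⟩ := hs (P' v)
      obtain ⟨u, rfl⟩ := hP.2 w
      exact ⟨u, hP'.1 ((nat u).trans hw)⟩
    · have h1 := (hk (P v)).1 ((nat v).symm.trans ((congrArg P' hv).trans (map_zero P')))
      have key : ∀ w, w ∈ I.map (f.stalkMap z).hom • (⊤ : Submodule (Z.presheaf.stalk z) (G.presheaf.stalk z)) →
          ∃ u ∈ I • (⊤ : Submodule (X.presheaf.stalk (f z))
            (((Scheme.Modules.pushforward f).obj G).presheaf.stalk (f z))), P u = w := fun w hw => by
        refine Submodule.smul_induction_on hw (fun r hr m _ => ?_) fun a b ha hb => ?_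
        · obtain ⟨r, hr', rfl⟩ := (Ideal.mem_map_iff_of_surjective _ (f.stalkMap_surjective z)).1 hr
          obtain ⟨u, rfl⟩ := hP.2 m
          exact ⟨r • u, Submodule.smul_mem_smul hr' trivial, KFlat.pushStalk_smul f z G r u⟩
        · obtain ⟨a', ha', rfl⟩ := ha
          obtain ⟨b', hb', rfl⟩ := hb
          exact ⟨a' + b', add_mem ha' hb', map_add P a' b'⟩
      obtain ⟨u, hu, e⟩ := key _ h1
      exact hP.1 e ▸ hu
    · refine hP'.1 (((nat v).trans ?_).trans (map_zero P').symm)
      refine (hk (P v)).2 ?_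
      refine Submodule.smul_induction_on hv (fun r hr m _ => ?_) fun a b ha hb => ?_
      · rw [show P (r • m) = (f.stalkMap z).hom r • P m from KFlat.pushStalk_smul f z G r m]
        exact Submodule.smul_mem_smul (Ideal.mem_map_of_mem _ hr) trivial
      · rw [show P (a + b) = P a + P b from map_add P a b]
        exact add_mem ha hb
  · haveI : Subsingleton (((Scheme.Modules.pushforward f).obj G).presheaf.stalk x) :=
      KFlat.subsingleton_stalk_push f G hx
    haveI : Subsingleton (((Scheme.Modules.pushforward f).obj G').presheaf.stalk x) :=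
      KFlat.subsingleton_stalk_push f G' hx
    exact ⟨fun v => ⟨0, Subsingleton.elim _ _⟩,
      fun v => ⟨fun _ => Subsingleton.elim v 0 ▸ zero_mem _, fun _ => Subsingleton.elim _ _⟩⟩

end

end Groth.Agent.LeffGlue
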