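import Groth.Agent.LeffGlue.StalkIdeal
import Groth.Agent.LeffAmple.Algebraize
import Groth.Agent.ThickSys.Sheaf
import Groth.Agent.SGA6Ext.Pull

/-!
Systems on a completion restricted to a closed subscheme.
-/

set_option autoImplicit false
set_option maxHeartbeats 1000000
set_option linter.style.haveILetI false
set_option linter.unusedSectionVars false
set_option backward.isDefEq.respectTransparency false
set_option backward.isDefEq.respectTransparency.types false
universe u

namespace Groth.Agent.LeffGlue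

open CategoryTheory CategoryTheory.Limits AlgebraicGeometry TopologicalSpace Opposite
open Groth.Agent.K0Dev (St)
open FormAlg (sysObj sysTn sysPull pullPullIso)

noncomputable section

variable {X : Scheme.{u}}

theorem idealAt_completion (J : X.IdealSheafData) (n : ℕ) (x : X) :
    idealAt (FSch.completionToX X J n).ker x = idealAt J x ^ (n + 1) := by
  rw [Scheme.IdealSheafData.ker_subschemeι, idealAt_pow]

theorem exists_lift_comap {Z : Scheme.{u}} (a : Z ⟶ X) (J' : X.IdealSheafData) {K' : Z.IdealSheafData}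
    (h : K' = J'.comap a) : ∃ i : K'.subscheme ⟶ J'.subscheme, i ≫ J'.subschemeι = K'.subschemeι ≫ a := by
  subst h
  refine ⟨(J'.comapIso a).hom ≫ pullback.snd a J'.subschemeι, ?_⟩
  rw [Category.assoc, ← pullback.condition, Scheme.IdealSheafData.comapIso_hom_fst_assoc]

variable {J : X.IdealSheafData} (𝔐 : FSch.ModSys (FSch.completionAlong X J)) {Z : Scheme.{u}} (a : Z ⟶ X)

theorem isIso_pullback_sysTn (n : ℕ) :
    IsIso ((Scheme.Modules.pullback (FSch.completionToX X J n)).map (sysTn 𝔐 n)) := by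
  let adj := Scheme.Modules.pullbackPushforwardAdjunction (FSch.completionToX X J n)
  haveI := GrothSS.isIso_counit_push (FSch.completionToX X J n)
  have h : (Scheme.Modules.pullback (FSch.completionToX X J n)).map (sysTn 𝔐 n) ≫ adj.counit.app (𝔐.F n) =
      (sysPull 𝔐 n).hom :=
    (adj.homEquiv_counit (X := sysObj 𝔐 (n + 1)) (Y := 𝔐.F n) (g := sysTn 𝔐 n)).symm.trans
      (Equiv.symm_apply_apply _ _)
  haveI : IsIso ((Scheme.Modules.pullback (FSch.completionToX X J n)).map (sysTn 𝔐 n) ≫ adj.counit.app (𝔐.F n)) := by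
    rw [h]; infer_instance
  exact IsIso.of_isIso_comp_right _ (adj.counit.app (𝔐.F n))

/-- The levels on the closed subscheme. -/
def A (n : ℕ) : Z.Modules := (Scheme.Modules.pullback a).obj (sysObj 𝔐 n)

/-- The transitions on the closed subscheme. -/
def α (n : ℕ) : A 𝔐 a (n + 1) ⟶ A 𝔐 a n := (Scheme.Modules.pullback a).map (sysTn 𝔐 n)

theorem isIso_pullback_α (n : ℕ) :
    IsIso ((Scheme.Modules.pullback (FSch.completionToX Z (J.comap a) n)).map (α 𝔐 a n)) := by
  obtain ⟨i, hi⟩ := exists_lift_comap a (J ^ (n + 1)) (ThickSys.comap_pow J a (n + 1)).symm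
  haveI := isIso_pullback_sysTn 𝔐 n
  refine (NatIso.isIso_map_iff ((Scheme.Modules.pullbackComp (FSch.completionToX Z (J.comap a) n) a) ≪≫
    Scheme.Modules.pullbackCongr hi.symm ≪≫ (Scheme.Modules.pullbackComp i (J ^ (n + 1)).subschemeι).symm)
    (sysTn 𝔐 n)).2 ?_
  exact inferInstanceAs (IsIso ((Scheme.Modules.pullback i).map
    ((Scheme.Modules.pullback (FSch.completionToX X J n)).map (sysTn 𝔐 n))))

/-- The restricted system. -/
def restr : FSch.ModSys (FSch.completionAlong Z (J.comap a)) where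
  F n := (Scheme.Modules.pullback (FSch.completionToX Z (J.comap a) n)).obj (A 𝔐 a n)
  e n := pullPullIso n (A 𝔐 a (n + 1)) ≪≫
    @asIso _ _ _ _ ((Scheme.Modules.pullback (FSch.completionToX Z (J.comap a) n)).map (α 𝔐 a n))
      (isIso_pullback_α 𝔐 a n)

theorem isFinLocFree_restr (h𝔐 : ∀ n, FlatMod.IsFinLocFree (𝔐.F n)) (n : ℕ) :
    FlatMod.IsFinLocFree ((restr 𝔐 a).F n) := by
  obtain ⟨i, hi⟩ := exists_lift_comap a (J ^ (n + 1)) (ThickSys.comap_pow J a (n + 1)).symm
  haveI := GrothSS.isIso_counit_push (FSch.completionToX X J n)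
  exact DQCoh.isFinLocFree_of_iso'
    ((Scheme.Modules.pullback i).mapIso
        (asIso ((Scheme.Modules.pullbackPushforwardAdjunction (FSch.completionToX X J n)).counit.app (𝔐.F n))).symm ≪≫
      (Scheme.Modules.pullbackComp i (J ^ (n + 1)).subschemeι).app (sysObj 𝔐 n) ≪≫
      (Scheme.Modules.pullbackCongr hi).app (sysObj 𝔐 n) ≪≫
      (Scheme.Modules.pullbackComp (FSch.completionToX Z (J.comap a) n) a).symm.app (sysObj 𝔐 n))
    (SGA6Ext.isFinLocFree_pullback i (h𝔐 n))

/-- The comparison with the restricted system, on the subscheme. -/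
theorem cUnit_restr (n : ℕ) :
    LeffAmple.cUnit (J.comap a) (A 𝔐 a (n + 1)) (n + 1) ≫ sysTn (restr 𝔐 a) n =
      α 𝔐 a n ≫ LeffAmple.cUnit (J.comap a) (A 𝔐 a n) n := by
  let adj := Scheme.Modules.pullbackPushforwardAdjunction (FSch.completionToX Z (J.comap a) n)
  let adj' := Scheme.Modules.pullbackPushforwardAdjunction (FSch.completionToX Z (J.comap a) (n + 1))
  refine (adj.homEquiv _ _).symm.injective ?_
  refine ((adj.homEquiv_naturality_left_symm _ _).trans (congrArg (_ ≫ ·) (Equiv.symm_apply_apply _ _))).trans ?_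
  refine Eq.trans (LeffAmple.cancel_transition (Scheme.Modules.pullback ((FSch.completionAlong Z (J.comap a)).ι n))
    (a := (Scheme.Modules.pullback (FSch.completionToX Z (J.comap a) (n + 1))).map
      (adj'.unit.app (A 𝔐 a (n + 1))))
    (c := adj'.counit.app ((restr 𝔐 a).F (n + 1))) (ψ' := 𝟙 _) (e := ((restr 𝔐 a).e n).hom)
    (pM := pullPullIso n (A 𝔐 a (n + 1))) (pN := (pullPullIso n (sysObj (restr 𝔐 a) (n + 1))).hom)
    (b := (Scheme.Modules.pullback (FSch.completionToX Z (J.comap a) n)).map (adj'.unit.app (A 𝔐 a (n + 1))))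
    (s := (sysPull (restr 𝔐 a) n).hom)
    (ψ := (Scheme.Modules.pullback (FSch.completionToX Z (J.comap a) n)).map (α 𝔐 a n))
    (FormAlg.pullPullIso_natural (𝓘 := J.comap a) (M := A 𝔐 a (n + 1)) (N := sysObj (restr 𝔐 a) (n + 1)) n
      (adj'.unit.app (A 𝔐 a (n + 1))))
    (FormAlg.sysPull_hom (restr 𝔐 a) n) (adj'.left_triangle_components _) ?_) ?_
  · rw [CategoryTheory.Functor.map_id]
    exact Category.id_comp _
  · refine Eq.trans ?_ (adj.homEquiv_naturality_left_symm (α 𝔐 a n) (LeffAmple.cUnit (J.comap a) (A 𝔐 a n) n)).symm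
    refine (Category.comp_id _).symm.trans (congrArg (_ ≫ ·) ?_)
    exact ((congrArg (adj.homEquiv _ _).symm (adj.homEquiv_id (A 𝔐 a n)).symm).trans (Equiv.symm_apply_apply _ _)).symm

/-- The comparison with the restricted system. -/
def p (n : ℕ) : sysObj 𝔐 n ⟶ (Scheme.Modules.pushforward a).obj (sysObj (restr 𝔐 a) n) :=
  (Scheme.Modules.pullbackPushforwardAdjunction a).unit.app (sysObj 𝔐 n) ≫
    (Scheme.Modules.pushforward a).map (LeffAmple.cUnit (J.comap a) (A 𝔐 a n) n)

theorem p_comm (n : ℕ) :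
    p 𝔐 a (n + 1) ≫ (Scheme.Modules.pushforward a).map (sysTn (restr 𝔐 a) n) = sysTn 𝔐 n ≫ p 𝔐 a n := by
  have nat := (Scheme.Modules.pullbackPushforwardAdjunction a).unit.naturality (sysTn 𝔐 n)
  simp only [Functor.id_map, Functor.comp_map] at nat
  refine (Category.assoc _ _ _).trans ?_
  refine (congrArg (_ ≫ ·) ((Scheme.Modules.pushforward a).map_comp _ _).symm).trans ?_
  refine (congrArg (fun t => _ ≫ (Scheme.Modules.pushforward a).map t) (cUnit_restr 𝔐 a n)).trans ?_
  rw [Functor.map_comp, p, ← Category.assoc, ← Category.assoc, nat]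
  rfl

theorem smul_sysObj_eq_zero (n : ℕ) (x : X) {v : (sysObj 𝔐 n).presheaf.stalk x}
    (hv : v ∈ idealAt J x ^ (n + 1) • (⊤ : Submodule (X.presheaf.stalk x) ((sysObj 𝔐 n).presheaf.stalk x))) :
    v = 0 := by
  rw [← idealAt_completion J n x] at hv
  exact smul_push_eq_zero (FSch.completionToX X J n) (𝔐.F n) x hv

theorem sysTn_sm (n : ℕ) (x : X) :
    Function.Surjective (sm x (sysTn 𝔐 n)) ∧ ∀ v, sm x (sysTn 𝔐 n) v = 0 ↔
      v ∈ idealAt J x ^ (n + 1) • (⊤ : Submodule (X.presheaf.stalk x) ((sysObj 𝔐 (n + 1)).presheaf.stalk x)) := by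
  rw [← idealAt_completion J n x]
  exact adjunct_sm (FSch.completionToX X J n) (sysPull 𝔐 n) x

theorem tr_sm {m n : ℕ} (h : m ≤ n) (x : X) :
    Function.Surjective (sm x (LeffAmple.tr 𝔐 h)) ∧ ∀ v, sm x (LeffAmple.tr 𝔐 h) v = 0 ↔
      v ∈ idealAt J x ^ (m + 1) • (⊤ : Submodule (X.presheaf.stalk x) ((sysObj 𝔐 n).presheaf.stalk x)) := by
  induction n, h using Nat.le_induction with
  | base =>
    rw [LeffAmple.tr_refl]
    refine ⟨fun v => ⟨v, sm_id x _ v⟩, fun v => ?_⟩
    rw [sm_id]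
    exact ⟨fun h => h ▸ zero_mem _, smul_sysObj_eq_zero 𝔐 m x⟩
  | succ n hmn ih =>
    obtain ⟨i1, i2⟩ := ih
    obtain ⟨s1, s2⟩ := sysTn_sm 𝔐 n x
    have e : ∀ v, sm x (LeffAmple.tr 𝔐 (hmn.trans (Nat.le_succ n))) v =
        sm x (LeffAmple.tr 𝔐 hmn) (sm x (sysTn 𝔐 n) v) := fun v => by
      rw [← LeffAmple.tr_comp 𝔐 hmn (Nat.le_succ n), LeffAmple.tr_succ, sm_comp]
    refine ⟨fun u => ?_, fun v => ⟨fun hv => ?_, fun hv => ?_⟩⟩
    · obtain ⟨w, rfl⟩ := i1 u
      obtain ⟨v, rfl⟩ := s1 w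
      exact ⟨v, e v⟩
    · obtain ⟨v', hv', e'⟩ := mem_smul_top_map _ s1 _ ((i2 _).1 ((e v).symm.trans hv))
      have h2 := (s2 (v - v')).1 (by rw [map_sub, e', sub_self])
      have h3 := Submodule.smul_mono_left (Ideal.pow_le_pow_right (show m + 1 ≤ n + 1 by omega)) h2
      simpa using add_mem h3 hv'
    · refine (e v).trans ((i2 _).2 ?_)
      have := Submodule.mem_map_of_mem (f := sm x (sysTn 𝔐 n)) hv
      rwa [Submodule.map_smul'', Submodule.map_top, LinearMap.range_eq_top.2 s1] at this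

theorem p_sm [IsClosedImmersion a] (n : ℕ) (x : X) :
    Function.Surjective (sm x (p 𝔐 a n)) ∧ ∀ v, sm x (p 𝔐 a n) v = 0 ↔
      v ∈ idealAt a.ker x • (⊤ : Submodule (X.presheaf.stalk x) ((sysObj 𝔐 n).presheaf.stalk x)) := by
  obtain ⟨u1, u2⟩ := adjunct_sm a (Iso.refl ((Scheme.Modules.pullback a).obj (sysObj 𝔐 n))) x
  rw [Iso.refl_hom, Adjunction.homEquiv_id] at u1 u2
  obtain ⟨h1, h2⟩ := push_sm a (LeffAmple.cUnit (J.comap a) (A 𝔐 a n) n) x (idealAt J x ^ (n + 1)) fun z hz => by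
    subst hz
    rw [Ideal.map_pow, ← idealAt_comap J a z, ← idealAt_completion (J.comap a) n z]
    have := adjunct_sm (FSch.completionToX Z (J.comap a) n)
      (Iso.refl ((Scheme.Modules.pullback (FSch.completionToX Z (J.comap a) n)).obj (A 𝔐 a n))) z
    rw [Iso.refl_hom, Adjunction.homEquiv_id] at this
    exact this
  refine ⟨fun w => ?_, fun v => ⟨fun hv => ?_, fun hv => ?_⟩⟩
  · obtain ⟨u, rfl⟩ := h1 w
    obtain ⟨v, rfl⟩ := u1 u
    exact ⟨v, sm_comp x _ _ v⟩
  · refine (u2 v).1 ?_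
    obtain ⟨v', hv', e⟩ := mem_smul_top_map _ u1 _ ((h2 _).1 ((sm_comp x _ _ v).symm.trans hv))
    exact e.symm.trans ((congrArg _ (smul_sysObj_eq_zero 𝔐 n x hv')).trans (map_zero _))
  · refine (sm_comp x _ _ v).trans ?_
    exact (congrArg _ ((u2 v).2 hv)).trans (map_zero _)

end

end Groth.Agent.LeffGlue
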